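import Mathlib

set_option autoImplicit false

/-!
The Bruhat decomposition of invertible matrices: upper triangular times permutation times upper triangular.
-/

namespace CfsgLib.Unipotent

open Matrix

variable {F : Type*} [Field F]

/-- A matrix extended by one row and one column. -/
def border {n : ℕ} (r c : Fin (n + 1)) (A : Matrix (Fin n) (Fin n) F) :
    Matrix (Fin (n + 1)) (Fin (n + 1)) F :=
  fun i j => Fin.insertNth (α := fun _ => F) c (if i = r then 1 else 0)
    (fun j' => Fin.insertNth (α := fun _ => F) r 0 (fun i' => A i' j') i) j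

theorem border_corner {n : ℕ} (r c : Fin (n + 1)) (A : Matrix (Fin n) (Fin n) F) :
    border r c A r c = 1 := by simp [border]

theorem border_col {n : ℕ} (r c : Fin (n + 1)) (A : Matrix (Fin n) (Fin n) F) (i : Fin n) :
    border r c A (r.succAbove i) c = 0 := by simp [border, Fin.succAbove_ne]

theorem border_row {n : ℕ} (r c : Fin (n + 1)) (A : Matrix (Fin n) (Fin n) F) (j : Fin n) :
    border r c A r (c.succAbove j) = 0 := by simp [border]

theorem border_inner {n : ℕ} (r c : Fin (n + 1)) (A : Matrix (Fin n) (Fin n) F) (i j : Fin n) :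
    border r c A (r.succAbove i) (c.succAbove j) = A i j := by simp [border]

theorem border_mul {n : ℕ} (r s c : Fin (n + 1)) (A B : Matrix (Fin n) (Fin n) F) :
    border r s A * border s c B = border r c (A * B) := by
  refine Matrix.ext fun i j => ?_
  rw [Matrix.mul_apply, Fin.sum_univ_succAbove _ s]
  rcases Fin.eq_self_or_eq_succAbove r i with rfl | ⟨i, rfl⟩ <;>
    rcases Fin.eq_self_or_eq_succAbove c j with rfl | ⟨j, rfl⟩ <;>
    simp [border_corner, border_col, border_row, border_inner, Matrix.mul_apply]

theorem border_triang {n : ℕ} (r : Fin (n + 1)) {A : Matrix (Fin n) (Fin n) F}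
    (hA : A.BlockTriangular id) : (border r r A).BlockTriangular id := by
  intro i j hij
  rcases Fin.eq_self_or_eq_succAbove r i with hi | ⟨i', hi⟩ <;>
    rcases Fin.eq_self_or_eq_succAbove r j with hj | ⟨j', hj⟩ <;> subst hi hj
  · exact absurd hij (lt_irrefl _)
  · exact border_row _ _ _ _
  · exact border_col _ _ _ _
  · rw [border_inner]
    exact hA (Fin.succAbove_lt_succAbove_iff.1 hij)

/-- Upper triangular times permutation times upper triangular. -/
theorem bruhat : ∀ (n : ℕ) (M : Matrix (Fin n) (Fin n) F), IsUnit M.det →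
    ∃ (σ : Equiv.Perm (Fin n)) (A B : Matrix (Fin n) (Fin n) F),
      A.BlockTriangular id ∧ IsUnit A.det ∧ B.BlockTriangular id ∧ IsUnit B.det ∧
      A * M * B = fun i j => if i = σ j then 1 else 0 := by
  intro n
  induction n with
  | zero => exact fun M _ => ⟨1, 1, 1, blockTriangular_one, by simp, blockTriangular_one, by simp,
      Matrix.ext fun i => i.elim0⟩
  | succ n ih =>
    intro M hM
    classical
    obtain ⟨r, hr, hmax⟩ : ∃ r, M r 0 ≠ 0 ∧ ∀ i, r < i → M i 0 = 0 := by
      have hne : (Finset.univ.filter fun i => M i 0 ≠ 0).Nonempty := by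
        by_contra hc
        rw [Finset.not_nonempty_iff_eq_empty, Finset.filter_eq_empty_iff] at hc
        exact hM.ne_zero (Matrix.det_eq_zero_of_column_eq_zero 0 fun i => not_not.1 (hc (Finset.mem_univ i)))
      refine ⟨Finset.max' _ hne, (Finset.mem_filter.1 (Finset.max'_mem _ hne)).2, fun i hi => ?_⟩
      by_contra hc
      exact absurd (Finset.le_max' _ i (Finset.mem_filter.2 ⟨Finset.mem_univ _, hc⟩)) (not_le.2 hi)
    -- clear the column
    let L : Matrix (Fin (n + 1)) (Fin (n + 1)) F :=
      1 - Matrix.vecMulVec (fun i => if i < r then M i 0 / M r 0 else 0) (Pi.single r 1)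
    have hLt : L.BlockTriangular id := fun i j hij => by
      have h1 : (1 : Matrix (Fin (n + 1)) (Fin (n + 1)) F) i j = 0 := Matrix.one_apply_ne (ne_of_gt hij)
      simp only [L, Matrix.sub_apply, Matrix.vecMulVec_apply, h1, zero_sub, neg_eq_zero]
      by_cases hj : j = r
      · subst hj
        rw [if_neg (not_lt.2 (le_of_lt (show j < i from hij))), zero_mul]
      · rw [Pi.single_eq_of_ne hj, mul_zero]
    have hLd : IsUnit L.det := by
      rw [Matrix.det_of_upperTriangular hLt]
      refine IsUnit.prod_iff.2 fun i _ => ?_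
      simp only [L, Matrix.sub_apply, Matrix.vecMulVec_apply, Matrix.one_apply_eq]
      by_cases hi : i = r
      · simp [hi]
      · rw [Pi.single_eq_of_ne hi, mul_zero, sub_zero]; exact isUnit_one
    set M1 := L * M with hM1
    have hM1a : ∀ i j, M1 i j = M i j - (if i < r then M i 0 / M r 0 else 0) * M r j := fun i j => by
      rw [hM1, Matrix.mul_apply]
      simp only [L, Matrix.sub_apply, Matrix.vecMulVec_apply, sub_mul, Finset.sum_sub_distrib,
        Matrix.one_apply, Pi.single_apply]
      simp
    have hc0 : ∀ i, M1 i 0 = if i = r then M r 0 else 0 := fun i => by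
      rw [hM1a]
      rcases lt_trichotomy i r with h | h | h
      · rw [if_pos h, if_neg (ne_of_lt h), div_mul_cancel₀ _ hr, sub_self]
      · subst h; simp
      · rw [if_neg (not_lt.2 h.le), if_neg (ne_of_gt h), hmax i h]; simp
    have hrow : ∀ j, M1 r j = M r j := fun j => by rw [hM1a]; simp
    -- clear the row
    let R : Matrix (Fin (n + 1)) (Fin (n + 1)) F :=
      fun i j => if i = 0 then (if j = 0 then 1 / M r 0 else -(M r j / M r 0)) else if i = j then 1 else 0
    have hRt : R.BlockTriangular id := fun i j hij => by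
      have h0 : i ≠ 0 := fun e => absurd (e ▸ hij : j < (0 : Fin (n + 1))) (Fin.not_lt_zero _)
      simp [R, h0, ne_of_gt (show j < i from hij)]
    have hRd : IsUnit R.det := by
      rw [Matrix.det_of_upperTriangular hRt]
      refine IsUnit.prod_iff.2 fun i _ => ?_
      by_cases hi : i = 0 <;> simp [R, hi, hr]
    set M2 := M1 * R with hM2
    have hM2a : ∀ i j, M2 i j = if j = 0 then M1 i 0 / M r 0 else M1 i j - M1 i 0 * (M r j / M r 0) :=
      fun i j => by
      rw [hM2, Matrix.mul_apply, Fin.sum_univ_succ]
      by_cases hj : j = 0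
      · subst hj
        simp [R, Fin.succ_ne_zero, div_eq_mul_inv]
      · obtain ⟨k, rfl⟩ := Fin.exists_succ_eq.2 hj
        simp [R, Fin.succ_ne_zero, Fin.succ_inj, sub_eq_add_neg, add_comm]
    let N : Matrix (Fin n) (Fin n) F := fun i j => M2 (r.succAbove i) j.succ
    have hb : M2 = border r 0 N := by
      refine Matrix.ext fun i j => ?_
      rcases Fin.eq_self_or_eq_succAbove r i with hi | ⟨i', hi⟩ <;>
        rcases Fin.eq_self_or_eq_succAbove (0 : Fin (n + 1)) j with hj | ⟨j', hj⟩ <;> subst hi hj
      · rw [border_corner, hM2a, if_pos rfl, hc0, if_pos rfl, div_self hr]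
      · rw [border_row, hM2a, if_neg (by simp), hc0, if_pos rfl, hrow]
        field_simp
        ring
      · rw [border_col, hM2a, if_pos rfl, hc0, if_neg (Fin.succAbove_ne _ _), zero_div]
      · rw [border_inner, Fin.succAbove_zero]
    have hN : IsUnit N.det := by
      have h2 : IsUnit M2.det := by
        rw [hM2, hM1, Matrix.det_mul, Matrix.det_mul]
        exact (hLd.mul hM).mul hRd
      rw [hb, Matrix.det_succ_column_zero, Finset.sum_eq_single r] at h2
      · rw [border_corner, mul_one] at h2
        have : (border r 0 N).submatrix r.succAbove Fin.succ = N := Matrix.ext fun i j => by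
          rw [Matrix.submatrix_apply, ← Fin.succAbove_zero, border_inner]
        rw [this] at h2
        exact isUnit_of_mul_isUnit_right h2
      · intro i _ hi
        obtain ⟨i', rfl⟩ := Fin.exists_succAbove_eq hi
        rw [border_col]; ring
      · simp
    obtain ⟨τ, A, B, hAt, hAd, hBt, hBd, he⟩ := ih N hN
    let σ : Equiv.Perm (Fin (n + 1)) :=
      (finSuccEquiv' 0).trans ((Equiv.optionCongr τ).trans (finSuccEquiv' r).symm)
    refine ⟨σ, border r r A * L, R * border 0 0 B, (border_triang r hAt).mul hLt, ?_,
      hRt.mul (border_triang 0 hBt), ?_, ?_⟩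
    · rw [Matrix.det_mul]
      refine IsUnit.mul ?_ hLd
      rw [Matrix.det_of_upperTriangular (border_triang r hAt), IsUnit.prod_iff]
      intro i _
      rcases Fin.eq_self_or_eq_succAbove r i with rfl | ⟨i', rfl⟩
      · rw [border_corner]; exact isUnit_one
      · rw [border_inner]
        rw [Matrix.det_of_upperTriangular hAt, IsUnit.prod_iff] at hAd
        exact hAd i' (Finset.mem_univ _)
    · rw [Matrix.det_mul]
      refine IsUnit.mul hRd ?_
      rw [Matrix.det_of_upperTriangular (border_triang 0 hBt), IsUnit.prod_iff]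
      intro i _
      rcases Fin.eq_self_or_eq_succAbove (0 : Fin (n + 1)) i with rfl | ⟨i', rfl⟩
      · rw [border_corner]; exact isUnit_one
      · rw [border_inner]
        rw [Matrix.det_of_upperTriangular hBt, IsUnit.prod_iff] at hBd
        exact hBd i' (Finset.mem_univ _)
    · have : border r r A * L * M * (R * border 0 0 B) = border r r A * M2 * border 0 0 B := by
        simp only [hM2, hM1, Matrix.mul_assoc]
      rw [this, hb, border_mul, border_mul, he]
      have hσ0 : σ 0 = r := by simp [σ, finSuccEquiv'_at, finSuccEquiv'_symm_none]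
      have hσs : ∀ j, σ ((0 : Fin (n + 1)).succAbove j) = r.succAbove (τ j) := fun j => by
        rw [show σ ((0 : Fin (n + 1)).succAbove j) = (finSuccEquiv' r).symm (Option.map τ
          (finSuccEquiv' 0 ((0 : Fin (n + 1)).succAbove j))) from rfl, finSuccEquiv'_succAbove,
          Option.map_some, finSuccEquiv'_symm_some]
      refine Matrix.ext fun i j => ?_
      rcases Fin.eq_self_or_eq_succAbove r i with hi | ⟨i', hi⟩ <;>
        rcases Fin.eq_self_or_eq_succAbove (0 : Fin (n + 1)) j with hj | ⟨j', hj⟩ <;> subst hi hj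
      · refine (border_corner _ _ _).trans ?_
        rw [hσ0, if_pos rfl]
      · refine (border_row _ _ _ _).trans ?_
        rw [hσs, if_neg (Fin.succAbove_ne _ _).symm]
      · refine (border_col _ _ _ _).trans ?_
        rw [hσ0, if_neg (Fin.succAbove_ne _ _)]
      · refine (border_inner _ _ _ _ _).trans ?_
        rw [hσs]
        simp only [Fin.succAbove_right_inj]

/-- The decomposition in the group. -/
theorem bruhat_GL {n : ℕ} (g : GL (Fin n) F) : ∃ (σ : Equiv.Perm (Fin n)) (a b : GL (Fin n) F),
    (a : Matrix (Fin n) (Fin n) F).BlockTriangular id ∧ (b : Matrix (Fin n) (Fin n) F).BlockTriangular id ∧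
    ((a * g * b : GL (Fin n) F) : Matrix (Fin n) (Fin n) F) = fun i j => if i = σ j then 1 else 0 := by
  obtain ⟨σ, A, B, hAt, hAd, hBt, hBd, he⟩ := bruhat n (g : Matrix (Fin n) (Fin n) F)
    ((Matrix.isUnit_iff_isUnit_det _).1 g.isUnit)
  exact ⟨σ, ((Matrix.isUnit_iff_isUnit_det A).2 hAd).unit, ((Matrix.isUnit_iff_isUnit_det B).2 hBd).unit,
    hAt, hBt, he⟩

end CfsgLib.Unipotent
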