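import Mathlib

/-!
Orders of unipotent matrices in characteristic `p`.
-/

set_option autoImplicit false

namespace CfsgLib.Unipotent

variable {F : Type*} [Field F] {d : ℕ}

theorem pow_card_eq_zero {N : Matrix (Fin d) (Fin d) F} (hN : IsNilpotent N) : N ^ d = 0 := by
  have h := (Matrix.isNilpotent_charpoly_sub_pow_of_isNilpotent hN).eq_zero
  rw [sub_eq_zero, Fintype.card_fin] at h
  simpa [h] using Matrix.aeval_self_charpoly N

variable (p : ℕ) [Fact p.Prime] [CharP F p]

theorem pow_eq_one_iff (u : GL (Fin d) F) (k : ℕ) :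
    u ^ p ^ k = 1 ↔ ((u : Matrix (Fin d) (Fin d) F) - 1) ^ p ^ k = 0 := by
  cases d with
  | zero =>
    exact ⟨fun _ => Subsingleton.elim _ _, fun _ => Units.ext (Subsingleton.elim _ _)⟩
  | succ d =>
    rw [sub_pow_char_pow_of_commute p k (Commute.one_right _), one_pow, sub_eq_zero,
      ← Units.val_pow_eq_pow_val, Units.val_eq_one]

theorem isNilpotent_of_orderOf {u : GL (Fin d) F} {j : ℕ} (hj : orderOf u = p ^ j) :
    IsNilpotent ((u : Matrix (Fin d) (Fin d) F) - 1) :=
  ⟨p ^ j, (pow_eq_one_iff p u j).mp (hj ▸ pow_orderOf_eq_one u)⟩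

theorem orderOf_le (u : GL (Fin d) F) (hu : IsNilpotent ((u : Matrix (Fin d) (Fin d) F) - 1)) :
    orderOf u ≤ p ^ Nat.clog p d ∧
      (((u : Matrix (Fin d) (Fin d) F) - 1) ^ (d - 1) ≠ 0 → orderOf u = p ^ Nat.clog p d) := by
  have hp := (Fact.out : p.Prime)
  have h1 : u ^ p ^ Nat.clog p d = 1 := (pow_eq_one_iff p u _).mpr
    (pow_eq_zero_of_le (Nat.le_pow_clog hp.one_lt d) (pow_card_eq_zero hu))
  refine ⟨Nat.le_of_dvd (pow_pos hp.pos _) (orderOf_dvd_of_pow_eq_one h1), fun hne => ?_⟩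
  obtain ⟨j, hjle, hj⟩ := (Nat.dvd_prime_pow hp).mp (orderOf_dvd_of_pow_eq_one h1)
  rcases hjle.eq_or_lt with rfl | hlt
  · exact hj
  · exfalso
    have h2 := (Nat.lt_clog_iff_pow_lt hp.one_lt).mp hlt
    exact hne (pow_eq_zero_of_le (by omega)
      ((pow_eq_one_iff p u j).mp (hj ▸ pow_orderOf_eq_one u)))

/-- The shift matrix. -/
def shift (F : Type*) [Field F] (d : ℕ) : Matrix (Fin d) (Fin d) F :=
  Matrix.of fun i j => if j.val = i.val + 1 then 1 else 0

theorem shift_pow_apply (k : ℕ) (i j : Fin d) :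
    (shift F d ^ k) i j = if j.val = i.val + k then 1 else 0 := by
  induction k generalizing i j with
  | zero => simp [Matrix.one_apply, Fin.ext_iff, eq_comm]
  | succ k ih =>
    rw [pow_succ, Matrix.mul_apply]
    simp only [ih, ite_mul, one_mul, zero_mul]
    by_cases h : i.val + k < d
    · rw [Finset.sum_eq_single_of_mem (⟨i.val + k, h⟩ : Fin d) (Finset.mem_univ _)
        fun b _ hb => if_neg fun e => hb (Fin.ext e)]
      simp only [if_true, shift, Matrix.of_apply, add_assoc]
    · rw [Finset.sum_eq_zero fun b _ => if_neg fun e => h (by omega)]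
      rw [if_neg]
      omega

theorem shift_pow_card : shift F d ^ d = 0 := by
  ext i j
  rw [shift_pow_apply, if_neg (by omega)]
  rfl

theorem shift_pow_pred_ne_zero (hd : 1 ≤ d) : shift F d ^ (d - 1) ≠ 0 := fun h => by
  have := congrFun (congrFun h ⟨0, by omega⟩) ⟨d - 1, by omega⟩
  rw [shift_pow_apply] at this
  simp at this

end CfsgLib.Unipotent
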