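import Cfsg.Agent.Lib.Unipotent.DoubleCoset

set_option autoImplicit false

/-!
Degrees of the alternating sums of flag characters.
-/

namespace CfsgLib.Unipotent

open CfsgLib.Classical.BlockCard

variable {n : ℕ}

/-- The `q`-integer. -/
def qint (q r : ℕ) : ℕ := ∑ l ∈ Finset.range r, q ^ l

theorem qfac_eq (q m : ℕ) : qfac q m = ∏ j ∈ Finset.range m, qint q (j + 1) := rfl

/-- Falling products of `q`-integers. -/
def qfall (q l j : ℕ) : ℕ := ∏ t ∈ Finset.range j, qint q (l - t)

theorem qfall_eq_zero (q : ℕ) {l j : ℕ} (h : l < j) : qfall q l j = 0 :=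
  Finset.prod_eq_zero (Finset.mem_range.2 h) (by rw [Nat.sub_self]; rfl)

theorem qfac_split (q : ℕ) : ∀ {l j : ℕ}, j ≤ l → qfac q l = qfall q l j * qfac q (l - j) := by
  intro l j
  induction j with
  | zero => simp [qfall]
  | succ j ih =>
    intro hj
    rw [ih (by omega), qfall, qfall, Finset.prod_range_succ, mul_assoc]
    congr 1
    rw [show l - j = l - (j + 1) + 1 by omega, qfac_eq, qfac_eq, Finset.prod_range_succ, mul_comm]

theorem qfac_pos {q : ℕ} (hq : 1 ≤ q) (m : ℕ) : 0 < qfac q m :=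
  Finset.prod_pos fun j _ => lt_of_lt_of_le (show 0 < 1 by norm_num)
    (le_trans (by simp) (Finset.single_le_sum (fun l _ => Nat.zero_le _) (Finset.mem_range.2 (Nat.succ_pos j))))

variable {F : Type*} [Field F] [Fintype F]

theorem index_parabolic {μ : Fin n → ℕ} (hμ : ∑ i, μ i = n) :
    (Cfsg.parabolicGL n F μ).index * ∏ k, qfac (Fintype.card F) (μ k) = qfac (Fintype.card F) n := by
  have hq : 2 ≤ Fintype.card F := Fintype.one_lt_card
  have h := (Cfsg.parabolicGL n F μ).index_mul_card
  rw [card_parabolic μ hμ, card_GL_qfac] at h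
  have hpos : 0 < Fintype.card F ^ n.choose 2 * (Fintype.card F - 1) ^ n :=
    Nat.mul_pos (pow_pos (by omega) _) (pow_pos (by omega) _)
  refine Nat.eq_of_mul_eq_mul_left hpos (Eq.trans ?_ h)
  ring

theorem fixed_one {G : Type*} [Group G] (H : Subgroup G) :
    Cfsg.fixedPointCharacter H 1 = (H.index : ℂ) := by
  rw [Cfsg.fixedPointCharacter, Subgroup.index]
  congr 1
  exact Nat.card_congr (Equiv.subtypeUnivEquiv fun x => one_smul G x)

theorem sum_sub_perm {ν : Fin n → ℕ} (hν : ∑ i, ν i = n) (κ : Equiv.Perm (Fin n))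
    (h : ∀ i, (κ i : ℕ) ≤ ν i + i.val) : ∑ i, (ν i + i.val - (κ i : ℕ)) = n := by
  have h1 : ∑ i, (ν i + i.val - (κ i : ℕ)) + ∑ i, (κ i : ℕ) = ∑ i, (ν i + i.val) := by
    rw [← Finset.sum_add_distrib]
    exact Finset.sum_congr rfl fun i _ => Nat.sub_add_cancel (h i)
  rw [Finset.sum_add_distrib, hν, Equiv.sum_comp κ (fun j => (j : ℕ))] at h1
  omega

theorem value_one {ν : Fin n → ℕ} (hν : ∑ i, ν i = n) :
    Cfsg.unipotentCharacterGL n F ν 1 * ∏ i, (qfac (Fintype.card F) (ν i + i.val) : ℂ) =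
      (qfac (Fintype.card F) n : ℂ) *
        Matrix.det (Matrix.of fun i j : Fin n => (qfall (Fintype.card F) (ν i + i.val) j : ℂ)) := by
  set q := Fintype.card F with hq
  rw [← Matrix.det_transpose, Matrix.det_apply', Cfsg.unipotentCharacterGL, Finset.sum_mul, Finset.mul_sum]
  refine Finset.sum_congr rfl fun κ _ => ?_
  simp only [Matrix.transpose_apply, Matrix.of_apply]
  split_ifs with h
  · rw [fixed_one]
    have hi := index_parabolic (F := F) (sum_sub_perm hν κ h)
    have hs : ∏ i, qfac q (ν i + i.val) =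
        (∏ i, qfall q (ν i + i.val) (κ i : ℕ)) * ∏ i, qfac q (ν i + i.val - (κ i : ℕ)) := by
      rw [← Finset.prod_mul_distrib]
      exact Finset.prod_congr rfl fun i _ => qfac_split q (h i)
    rw [← Nat.cast_prod, hs, ← hi, Nat.cast_mul, Nat.cast_mul, Nat.cast_prod, Nat.cast_prod]
    ring
  · push Not at h
    obtain ⟨i, hi⟩ := h
    rw [zero_mul, eq_comm]
    refine mul_eq_zero_of_right _ (mul_eq_zero_of_right _ (Finset.prod_eq_zero (Finset.mem_univ i) ?_))
    rw [qfall_eq_zero q hi, Nat.cast_zero]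

theorem choose_two_sum : ∀ n : ℕ, ∑ j ∈ Finset.range n, ∑ t ∈ Finset.range j, t = n * (n - 1) * (n - 2) / 6 := by
  intro n
  have hS : ∀ m : ℕ, ∑ j ∈ Finset.range m, ∑ t ∈ Finset.range j, t = m.choose 3 := by
    intro m
    induction m with
    | zero => rfl
    | succ m ih =>
      rw [Finset.sum_range_succ, ih, Finset.sum_range_id, Nat.choose_succ_succ, ← Nat.choose_two_right,
        add_comm]
  rw [hS, Nat.choose_eq_descFactorial_div_factorial]
  congr 1
  simp only [Nat.descFactorial_succ, Nat.descFactorial_zero, Nat.sub_zero, mul_one]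
  ring

theorem det_qfall (q : ℕ) (l : Fin n → ℕ) :
    (q : ℂ) ^ (n * (n - 1) * (n - 2) / 6) * Matrix.det (Matrix.of fun i j : Fin n => (qfall q (l i) j : ℂ)) =
      ∏ i : Fin n, ∏ j ∈ Finset.univ.filter (fun j : Fin n => i < j), ((qint q (l j) : ℂ) - qint q (l i)) := by
  have hstep : ∀ (a : ℕ) (j : ℕ), (q : ℂ) ^ (∑ t ∈ Finset.range j, t) * (qfall q a j : ℂ) =
      ∏ t ∈ Finset.range j, ((qint q a : ℂ) - qint q t) := fun a j => by
    rcases lt_or_ge a j with h | h
    · rw [qfall_eq_zero q h, Nat.cast_zero, mul_zero, eq_comm]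
      exact Finset.prod_eq_zero (Finset.mem_range.2 h) (sub_self _)
    · rw [qfall, Nat.cast_prod, ← Finset.prod_pow_eq_pow_sum, ← Finset.prod_mul_distrib]
      refine Finset.prod_congr rfl fun t ht => ?_
      have ht' := Finset.mem_range.1 ht
      have e : qint q a = qint q t + q ^ t * qint q (a - t) := by
        conv_lhs => rw [show a = t + (a - t) by omega]
        rw [qint, qint, qint, Finset.sum_range_add, Finset.mul_sum]
        congr 1
        exact Finset.sum_congr rfl fun x _ => pow_add q t x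
      rw [e]
      push_cast
      ring
  have hv := Matrix.det_eval_matrixOfPolynomials_eq_det_vandermonde (fun i => (qint q (l i) : ℂ))
    (fun j => ∏ t ∈ Finset.range (j : ℕ), (Polynomial.X - Polynomial.C (qint q t : ℂ)))
    (fun j => by
      rw [Polynomial.natDegree_prod_of_monic _ _ fun t _ => Polynomial.monic_X_sub_C _,
        Finset.sum_congr rfl fun t _ => Polynomial.natDegree_X_sub_C _]
      simp)
    (fun j => Polynomial.monic_prod_of_monic _ _ fun t _ => Polynomial.monic_X_sub_C _)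
  rw [Matrix.det_vandermonde] at hv
  rw [← choose_two_sum, ← Fin.sum_univ_eq_sum_range (fun j => ∑ t ∈ Finset.range j, t),
    ← Finset.prod_pow_eq_pow_sum, ← Matrix.det_mul_row]
  refine Eq.trans ?_ (hv.symm.trans (Finset.prod_congr rfl fun i _ => Finset.prod_congr ?_ fun _ _ => rfl))
  · congr 1
    refine Matrix.ext fun i j => ?_
    simp only [Matrix.of_apply, Polynomial.eval_prod, Polynomial.eval_sub, Polynomial.eval_X,
      Polynomial.eval_C]
    exact hstep _ _
  · ext j; simp

end CfsgLib.Unipotent
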