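import Mathlib
import Cfsg.Prelude.Def_LinearParabolics
import Cfsg.Agent.Lib.Classical.BlockTriangularCard

set_option autoImplicit false

/-!
Orbits on pairs of flags, of `GL_n` and of `S_n`: integer matrices with given margins.
-/

namespace CfsgLib.Unipotent

open Matrix

variable {n : ℕ}

/-- Nonnegative integer matrices with given column and row sums. -/
abbrev Margins (α β : Fin n → ℕ) : Type :=
  {a : Fin n → Fin n → ℕ // (∀ k, ∑ l, a k l = α k) ∧ ∀ l, ∑ k, a k l = β l}

/-- The block of a position. -/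
def lab (μ : Fin n → ℕ) (hμ : ∑ i, μ i = n) (i : Fin n) : Fin n :=
  ⟨Cfsg.compLabel μ i, (CfsgLib.Classical.BlockCard.compLabel_eq_iff μ hμ i).1⟩

theorem lab_mono (μ : Fin n → ℕ) (hμ : ∑ i, μ i = n) {i j : Fin n} (h : i ≤ j) :
    lab μ hμ i ≤ lab μ hμ j := by
  show Cfsg.compLabel μ i ≤ Cfsg.compLabel μ j
  refine Finset.card_le_card fun k hk => ?_
  simp only [Finset.mem_filter, Finset.mem_univ, true_and] at hk ⊢
  exact hk.trans h

theorem card_lab (μ : Fin n → ℕ) (hμ : ∑ i, μ i = n) (k : Fin n) :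
    (Finset.univ.filter fun i => lab μ hμ i = k).card = μ k := by
  classical
  have hle : ∑ l ∈ Finset.univ.filter (· < k), μ l + μ k ≤ n := by
    refine le_trans (le_of_eq ?_) (le_of_le_of_eq
      (Finset.sum_le_sum_of_subset (Finset.subset_univ (insert k (Finset.univ.filter (· < k))))) hμ)
    rw [Finset.sum_insert (by simp), add_comm]
  rw [← Fintype.card_subtype, ← Fintype.card_fin (μ k)]
  refine Fintype.card_congr
    { toFun := fun i => ⟨i.1.val - ∑ l ∈ Finset.univ.filter (· < k), μ l, by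
        have := ((CfsgLib.Classical.BlockCard.compLabel_eq_iff μ hμ i.1).2 k).1 (congrArg Fin.val i.2)
        omega⟩
      invFun := fun t => ⟨⟨∑ l ∈ Finset.univ.filter (· < k), μ l + t.val, by omega⟩,
        Fin.ext (((CfsgLib.Classical.BlockCard.compLabel_eq_iff μ hμ _).2 k).2 ⟨Nat.le_add_right _ _, by
          show _ + t.val < _; omega⟩)⟩
      left_inv := fun i => by
        have := ((CfsgLib.Classical.BlockCard.compLabel_eq_iff μ hμ i.1).2 k).1 (congrArg Fin.val i.2)
        exact Subtype.ext (Fin.ext (by simp only; omega))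
      right_inv := fun t => Fin.ext (by simp only; omega) }

/-- The block intersection numbers of a permutation. -/
def cnt (f g : Fin n → Fin n) (σ : Equiv.Perm (Fin n)) (k l : Fin n) : ℕ :=
  (Finset.univ.filter fun j => f (σ j) = k ∧ g j = l).card

/-- Permutations with the same intersection numbers differ by label preserving permutations. -/
theorem exists_factor {f g : Fin n → Fin n} {σ σ' : Equiv.Perm (Fin n)} (h : cnt f g σ = cnt f g σ') :
    ∃ ρ π : Equiv.Perm (Fin n), (∀ i, f (ρ i) = f i) ∧ (∀ i, g (π i) = g i) ∧ ρ * σ = σ' * π := by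
  classical
  have hc : ∀ c : Fin n × Fin n,
      Fintype.card {j // (f (σ j), g j) = c} = Fintype.card {j // (f (σ' j), g j) = c} := fun c => by
    rw [Fintype.card_subtype, Fintype.card_subtype]
    simpa [cnt, Prod.ext_iff] using congrFun (congrFun h c.1) c.2
  let π : Equiv.Perm (Fin n) := Equiv.ofFiberEquiv (f := fun j => (f (σ j), g j))
    (g := fun j => (f (σ' j), g j)) fun c => Fintype.equivOfCardEq (hc c)
  have hπ : ∀ j, (f (σ' (π j)), g (π j)) = (f (σ j), g j) := fun j =>
    Equiv.ofFiberEquiv_map (f := fun j => (f (σ j), g j)) (g := fun j => (f (σ' j), g j)) _ j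
  refine ⟨σ' * π * σ⁻¹, π, fun i => ?_, fun i => congrArg Prod.snd (hπ i), by group⟩
  have h1 := congrArg Prod.fst (hπ (σ⁻¹ i))
  simpa [Equiv.Perm.mul_apply] using h1

/-- Every matrix with the right margins comes from a permutation. -/
theorem exists_perm_of_margins {μ ν : Fin n → ℕ} (hμ : ∑ i, μ i = n) (hν : ∑ i, ν i = n)
    (a : Margins μ ν) : ∃ σ, cnt (lab μ hμ) (lab ν hν) σ = a.1 := by
  classical
  have hcard : Fintype.card (Σ c : Fin n × Fin n, Fin (a.1 c.1 c.2)) = Fintype.card (Fin n) := by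
    simp only [Fintype.card_sigma, Fintype.card_fin, Fintype.sum_prod_type]
    refine Eq.trans ?_ hμ
    exact Finset.sum_congr rfl fun k _ => by simp [a.2.1 k]
  let e := (Fintype.equivOfCardEq hcard).symm
  let h : Fin n → Fin n × Fin n := fun i => (e i).1
  have hh : ∀ c, (Finset.univ.filter fun i => h i = c).card = a.1 c.1 c.2 := fun c => by
    rw [← Fintype.card_subtype]
    refine (Fintype.card_congr ((e.subtypeEquiv (fun i => Iff.rfl)).trans
      (Equiv.sigmaSubtype c))).trans (Fintype.card_fin _)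
  have hf : ∀ k, Fintype.card {i // (h i).1 = k} = Fintype.card {i // lab μ hμ i = k} := fun k => by
    rw [Fintype.card_subtype, Fintype.card_subtype, card_lab, ← a.2.1 k,
      Finset.card_eq_sum_card_fiberwise (f := fun i => (h i).2) (t := Finset.univ)
        (fun _ _ => Finset.mem_univ _)]
    refine Finset.sum_congr rfl fun l _ => ?_
    rw [← hh (k, l), Finset.filter_filter]
    congr 1
    ext i
    simp [Prod.ext_iff]
  have hg : ∀ l, Fintype.card {i // (h i).2 = l} = Fintype.card {i // lab ν hν i = l} := fun l => by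
    rw [Fintype.card_subtype, Fintype.card_subtype, card_lab, ← a.2.2 l,
      Finset.card_eq_sum_card_fiberwise (f := fun i => (h i).1) (t := Finset.univ)
        (fun _ _ => Finset.mem_univ _)]
    refine Finset.sum_congr rfl fun k _ => ?_
    rw [← hh (k, l), Finset.filter_filter]
    congr 1
    ext i
    simp [Prod.ext_iff, and_comm]
  let A : Equiv.Perm (Fin n) := Equiv.ofFiberEquiv fun k => Fintype.equivOfCardEq (hf k)
  let B : Equiv.Perm (Fin n) := Equiv.ofFiberEquiv fun l => Fintype.equivOfCardEq (hg l)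
  have hA : ∀ i, lab μ hμ (A i) = (h i).1 := fun i => Equiv.ofFiberEquiv_map _ i
  have hB : ∀ i, lab ν hν (B i) = (h i).2 := fun i => Equiv.ofFiberEquiv_map _ i
  refine ⟨A * B⁻¹, funext fun k => funext fun l => ?_⟩
  rw [← hh (k, l)]
  refine Finset.card_equiv B.symm fun j => ?_
  have e1 := hA (B.symm j)
  have e2 := hB (B.symm j)
  rw [Equiv.apply_symm_apply] at e2
  simp only [Finset.mem_filter, Finset.mem_univ, true_and, Prod.ext_iff, ← e1, ← e2]
  rfl

theorem margins_cnt {μ ν : Fin n → ℕ} (hμ : ∑ i, μ i = n) (hν : ∑ i, ν i = n) (σ : Equiv.Perm (Fin n)) :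
    (∀ k, ∑ l, cnt (lab μ hμ) (lab ν hν) σ k l = μ k) ∧
      ∀ l, ∑ k, cnt (lab μ hμ) (lab ν hν) σ k l = ν l := by
  classical
  refine ⟨fun k => ?_, fun l => ?_⟩
  · rw [← card_lab μ hμ k]
    refine Eq.trans ?_ (Finset.card_equiv σ.symm (t := Finset.univ.filter fun j => lab μ hμ (σ j) = k)
      fun i => by simp).symm
    rw [Finset.card_eq_sum_card_fiberwise (f := lab ν hν) (t := Finset.univ) (fun _ _ => Finset.mem_univ _)]
    exact Finset.sum_congr rfl fun l _ => by rw [cnt, Finset.filter_filter]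
  · rw [← card_lab ν hν l,
      Finset.card_eq_sum_card_fiberwise (f := fun j => lab μ hμ (σ j)) (t := Finset.univ)
        (fun _ _ => Finset.mem_univ _)]
    refine Finset.sum_congr rfl fun k _ => ?_
    rw [cnt, Finset.filter_filter]
    congr 1
    ext i
    simp [and_comm]

/-- Orbits on pairs of cosets. -/
theorem orbit_count {G : Type*} [Group G] [Finite G] {μ ν : Fin n → ℕ} (hμ : ∑ i, μ i = n)
    (hν : ∑ i, ν i = n) (H K : Subgroup G) (W : Equiv.Perm (Fin n) →* G)
    (hH : ∀ ρ, (∀ i, lab μ hμ (ρ i) = lab μ hμ i) → W ρ ∈ H)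
    (hK : ∀ π, (∀ i, lab ν hν (π i) = lab ν hν i) → W π ∈ K)
    (hex : ∀ g, ∃ σ, ∃ a ∈ H, ∃ b ∈ K, g = a * W σ * b)
    (hinv : ∀ σ σ' a b, a ∈ H → b ∈ K → a * W σ = W σ' * b →
      cnt (lab μ hμ) (lab ν hν) σ = cnt (lab μ hμ) (lab ν hν) σ') :
    Nat.card (MulAction.orbitRel.Quotient G ((G ⧸ H) × (G ⧸ K))) = Nat.card (Margins μ ν) := by
  classical
  choose s hs using exists_perm_of_margins hμ hν
  let Ψ : Margins μ ν → MulAction.orbitRel.Quotient G ((G ⧸ H) × (G ⧸ K)) :=
    fun a => Quotient.mk'' (((1 : G) : G ⧸ H), (W (s a) : G ⧸ K))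
  refine (Nat.card_eq_of_bijective Ψ ⟨fun a b hab => ?_, fun o => ?_⟩).symm
  · have hab' : ((((1 : G) : G ⧸ H), (W (s a) : G ⧸ K))) ∈
        MulAction.orbit G ((((1 : G) : G ⧸ H), (W (s b) : G ⧸ K))) := Quotient.exact' hab
    obtain ⟨g, hg⟩ := hab'
    have h1 : ((g * 1 : G) : G ⧸ H) = ((1 : G) : G ⧸ H) := congrArg Prod.fst hg
    have h2 : ((g * W (s b) : G) : G ⧸ K) = (W (s a) : G ⧸ K) := congrArg Prod.snd hg
    rw [mul_one, QuotientGroup.eq, mul_one] at h1
    rw [QuotientGroup.eq] at h2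
    have h3 := hinv (s b) (s a) g _ (inv_mem_iff.1 h1) (inv_mem h2) (by group)
    rw [hs, hs] at h3
    exact Subtype.ext h3.symm
  · induction o using Quotient.inductionOn' with
    | h p =>
      obtain ⟨x, y⟩ := p
      induction x using QuotientGroup.induction_on with
      | _ x =>
      induction y using QuotientGroup.induction_on with
      | _ y =>
      obtain ⟨σ, a, ha, b, hb, hab⟩ := hex (x⁻¹ * y)
      let A : Margins μ ν := ⟨_, margins_cnt hμ hν σ⟩
      obtain ⟨ρ, π, hρ, hπ, he⟩ := exists_factor (hs A).symm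
      refine ⟨A, Quotient.sound' ?_⟩
      -- the move
      refine ⟨W ρ * a⁻¹ * x⁻¹, ?_⟩
      refine Prod.ext ?_ ?_
      · show ((W ρ * a⁻¹ * x⁻¹ * x : G) : G ⧸ H) = ((1 : G) : G ⧸ H)
        rw [inv_mul_cancel_right, QuotientGroup.eq, mul_one]
        exact inv_mem (mul_mem (hH ρ hρ) (inv_mem ha))
      · show ((W ρ * a⁻¹ * x⁻¹ * y : G) : G ⧸ K) = (W (s A) : G ⧸ K)
        rw [QuotientGroup.eq, show (W ρ * a⁻¹ * x⁻¹ * y)⁻¹ * W (s A) = b⁻¹ * (W π)⁻¹ by
          have h5 : W ρ * W σ = W (s A) * W π := by rw [← map_mul, ← map_mul, he]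
          rw [mul_assoc _ x⁻¹ y, hab]
          calc _ = b⁻¹ * ((W ρ * W σ)⁻¹ * W (s A)) := by group
            _ = _ := by rw [h5]; group]
        exact mul_mem (inv_mem hb) (inv_mem (hK π hπ))

/-- Burnside: the inner product of two permutation characters. -/
theorem sum_fixed {G : Type*} [Group G] [Fintype G] (H K : Subgroup G) :
    (Nat.card G : ℂ)⁻¹ * ∑ g : G, Cfsg.fixedPointCharacter H g * Cfsg.fixedPointCharacter K g =
      (Nat.card (MulAction.orbitRel.Quotient G ((G ⧸ H) × (G ⧸ K))) : ℂ) := by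
  classical
  have h := MulAction.sum_card_fixedBy_eq_card_orbits_mul_card_group G ((G ⧸ H) × (G ⧸ K))
  have hg : ∀ g : G, Cfsg.fixedPointCharacter H g * Cfsg.fixedPointCharacter K g =
      (Fintype.card (MulAction.fixedBy ((G ⧸ H) × (G ⧸ K)) g) : ℂ) := fun g => by
    rw [Cfsg.fixedPointCharacter, Cfsg.fixedPointCharacter, ← Nat.cast_mul, ← Nat.card_prod,
      ← Nat.card_eq_fintype_card]
    congr 1
    exact Nat.card_congr
      { toFun := fun p => ⟨(p.1.1, p.2.1), Prod.ext p.1.2 p.2.2⟩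
        invFun := fun p => (⟨p.1.1, congrArg Prod.fst p.2⟩, ⟨p.1.2, congrArg Prod.snd p.2⟩)
        left_inv := fun p => rfl
        right_inv := fun p => rfl }
  rw [Finset.sum_congr rfl fun g _ => hg g, ← Nat.cast_sum, h, Nat.cast_mul,
    Nat.card_eq_fintype_card, Nat.card_eq_fintype_card]
  field_simp

section GLn

variable {F : Type*} [Field F]

/-- Permutation matrices, underlying. -/
def pmM (σ : Equiv.Perm (Fin n)) : Matrix (Fin n) (Fin n) F :=
  fun i j => if i = σ j then 1 else 0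

/-- Permutation matrices. -/
def pm : Equiv.Perm (Fin n) →* GL (Fin n) F :=
  MonoidHom.toHomUnits <| show Equiv.Perm (Fin n) →* Matrix (Fin n) (Fin n) F from
    { toFun := pmM
      map_one' := Matrix.ext fun i j => by
        show (if i = j then (1 : F) else 0) = _
        rw [Matrix.one_apply]
      map_mul' := fun σ τ => by
        refine Matrix.ext fun i j => ?_
        show (if i = σ (τ j) then (1 : F) else 0) = _
        rw [Matrix.mul_apply, Finset.sum_eq_single (τ j)] <;> simp +contextual [pmM] }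

theorem pm_apply (σ : Equiv.Perm (Fin n)) (i j : Fin n) :
    (pm σ : GL (Fin n) F).1 i j = if i = σ j then 1 else 0 := rfl

theorem pm_mem {μ : Fin n → ℕ} (hμ : ∑ i, μ i = n) {ρ : Equiv.Perm (Fin n)}
    (hρ : ∀ i, lab μ hμ (ρ i) = lab μ hμ i) : (pm ρ : GL (Fin n) F) ∈ Cfsg.parabolicGL n F μ := by
  intro i j hij
  rw [pm_apply, if_neg]
  rintro rfl
  exact absurd (congrArg Fin.val (hρ j)) (ne_of_gt hij)

theorem upper_mem {μ : Fin n → ℕ} (hμ : ∑ i, μ i = n) {b : GL (Fin n) F}
    (hb : (b : Matrix (Fin n) (Fin n) F).BlockTriangular id) : b ∈ Cfsg.parabolicGL n F μ := by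
  intro i j hij
  refine hb ?_
  by_contra hc
  have hle : i ≤ j := not_lt.1 hc
  exact absurd hij (not_lt.2 (lab_mono μ hμ hle))

/-- Columns of an invertible matrix supported on few rows are few. -/
theorem card_le_of_support (p : GL (Fin n) F) (J R : Finset (Fin n))
    (h : ∀ j ∈ J, ∀ i, (p : Matrix (Fin n) (Fin n) F) i j ≠ 0 → i ∈ R) : J.card ≤ R.card := by
  classical
  let v : J → (R → F) := fun j i => (p : Matrix (Fin n) (Fin n) F) i.1 j.1
  have hv : LinearIndependent F v := by
    rw [Fintype.linearIndependent_iff]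
    intro c hc j
    let c' : Fin n → F := fun x => if hx : x ∈ J then c ⟨x, hx⟩ else 0
    have h0 : (p : Matrix (Fin n) (Fin n) F) *ᵥ c' = 0 := by
      funext i
      show ∑ x, (p : Matrix (Fin n) (Fin n) F) i x * c' x = 0
      rw [← Finset.sum_subset (Finset.subset_univ J) (fun x _ hx => by simp [c', hx]),
        ← Finset.sum_coe_sort J]
      by_cases hi : i ∈ R
      · have := congrFun hc ⟨i, hi⟩
        simp only [Finset.sum_apply, Pi.smul_apply, smul_eq_mul, Pi.zero_apply, v] at this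
        rw [← this]
        exact Finset.sum_congr rfl fun x _ => by simp [c', x.2, mul_comm]
      · exact Finset.sum_eq_zero fun x _ => by
          rw [by_contra (fun hne => hi (h x.1 x.2 i hne) : ¬ (p : Matrix (Fin n) (Fin n) F) i x.1 = 0 → False),
            zero_mul]
    have h1 : c' = 0 := by
      have := congrArg (fun z => ((p⁻¹ : GL (Fin n) F) : Matrix (Fin n) (Fin n) F) *ᵥ z) h0
      simpa [Matrix.mulVec_mulVec] using this
    have := congrFun h1 j.1
    simpa [c', j.2] using this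
  have := hv.fintype_card_le_finrank
  simpa using this

theorem gl_cum_le {μ ν : Fin n → ℕ} (hμ : ∑ i, μ i = n) (hν : ∑ i, ν i = n) {σ σ' : Equiv.Perm (Fin n)}
    {a b : GL (Fin n) F} (ha : a ∈ Cfsg.parabolicGL n F μ) (hb : b ∈ Cfsg.parabolicGL n F ν)
    (h : a * pm σ = pm σ' * b) (k l : ℕ) :
    (Finset.univ.filter fun j => k ≤ (lab μ hμ (σ j) : ℕ) ∧ (lab ν hν j : ℕ) < l).card ≤
      (Finset.univ.filter fun j => k ≤ (lab μ hμ (σ' j) : ℕ) ∧ (lab ν hν j : ℕ) < l).card := by
  classical
  have hentry : ∀ i j, (a : Matrix (Fin n) (Fin n) F) i (σ j) =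
      (b : Matrix (Fin n) (Fin n) F) (σ'.symm i) j := fun i j => by
    have h1 : (a : Matrix (Fin n) (Fin n) F) * (pm σ : GL (Fin n) F).1 =
        (pm σ' : GL (Fin n) F).1 * (b : Matrix (Fin n) (Fin n) F) := congrArg Units.val h
    have := congrFun (congrFun h1 i) j
    rw [Matrix.mul_apply, Matrix.mul_apply, Finset.sum_eq_single (σ j),
      Finset.sum_eq_single (σ'.symm i)] at this
    · simpa [pm_apply] using this
    all_goals simp +contextual [pm_apply, Equiv.eq_symm_apply, eq_comm]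
  let L : Finset (Fin n) := Finset.univ.filter fun i => (lab μ hμ i : ℕ) < k
  let J := Finset.univ.filter fun j => k ≤ (lab μ hμ (σ j) : ℕ) ∧ (lab ν hν j : ℕ) < l
  let R := Finset.univ.filter fun j => k ≤ (lab μ hμ (σ' j) : ℕ) ∧ (lab ν hν j : ℕ) < l
  have hdJ : Disjoint (J.map σ.toEmbedding) L := Finset.disjoint_left.2 fun i hi hL => by
    simp [J, L] at hi hL
    omega
  have hdR : Disjoint (R.map σ'.toEmbedding) L := Finset.disjoint_left.2 fun i hi hL => by
    simp [R, L] at hi hL
    omega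
  have := card_le_of_support a (J.map σ.toEmbedding ∪ L) (R.map σ'.toEmbedding ∪ L) fun x hx i hi => by
    rw [Finset.mem_union] at hx ⊢
    by_cases hiL : (lab μ hμ i : ℕ) < k
    · exact Or.inr (by simp [L, hiL])
    refine Or.inl ?_
    rcases hx with hx | hx
    · obtain ⟨j, hj, rfl⟩ := Finset.mem_map.1 hx
      simp only [J, Finset.mem_filter, Finset.mem_univ, true_and] at hj
      rw [Equiv.coe_toEmbedding, hentry] at hi
      refine Finset.mem_map.2 ⟨σ'.symm i, ?_, σ'.apply_symm_apply i⟩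
      simp only [R, Finset.mem_filter, Finset.mem_univ, true_and, Equiv.apply_symm_apply]
      refine ⟨not_lt.1 hiL, lt_of_le_of_lt (not_lt.1 fun hlt => hi (hb hlt)) hj.2⟩
    · simp only [L, Finset.mem_filter, Finset.mem_univ, true_and] at hx
      exact absurd (ha (show Cfsg.compLabel μ x < Cfsg.compLabel μ i from
        lt_of_lt_of_le hx (not_lt.1 hiL))) hi
  rw [Finset.card_union_of_disjoint hdJ, Finset.card_union_of_disjoint hdR, Finset.card_map,
    Finset.card_map] at this
  show J.card ≤ R.card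
  omega

theorem gl_cnt_eq {μ ν : Fin n → ℕ} (hμ : ∑ i, μ i = n) (hν : ∑ i, ν i = n) (σ σ' : Equiv.Perm (Fin n))
    (a b : GL (Fin n) F) (ha : a ∈ Cfsg.parabolicGL n F μ) (hb : b ∈ Cfsg.parabolicGL n F ν)
    (h : a * pm σ = pm σ' * b) : cnt (lab μ hμ) (lab ν hν) σ = cnt (lab μ hμ) (lab ν hν) σ' := by
  classical
  let N : Equiv.Perm (Fin n) → ℕ → ℕ → ℕ := fun τ k l =>
    (Finset.univ.filter fun j => k ≤ (lab μ hμ (τ j) : ℕ) ∧ (lab ν hν j : ℕ) < l).card
  have hN : ∀ k l, N σ k l = N σ' k l := fun k l =>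
    le_antisymm (gl_cum_le hμ hν ha hb h k l)
      (gl_cum_le hμ hν (inv_mem ha) (inv_mem hb) (by
        calc a⁻¹ * pm σ' = a⁻¹ * (pm σ' * b) * b⁻¹ := by group
          _ = pm σ * b⁻¹ := by rw [← h]; group) k l)
  have key : ∀ (τ : Equiv.Perm (Fin n)) (k l : Fin n), cnt (lab μ hμ) (lab ν hν) τ k l +
      N τ (k + 1) (l + 1) + N τ k l = N τ k (l + 1) + N τ (k + 1) l := fun τ k l => by
    simp only [cnt, N, Finset.card_filter, ← Finset.sum_add_distrib]
    refine Finset.sum_congr rfl fun j _ => ?_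
    simp only [Fin.ext_iff]
    split_ifs <;> omega
  funext k l
  have h1 := key σ k l
  have h2 := key σ' k l
  rw [hN, hN, hN, hN] at h1
  omega

end GLn

end CfsgLib.Unipotent
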