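import Mathlib
import Cfsg.Agent.Lib.Unipotent.DoubleCoset

set_option autoImplicit false

/-!
The Jacobi–Trudi evaluation: alternating sums of margin counts are orthonormal.
-/

namespace CfsgLib.Unipotent

open Matrix MvPolynomial

variable {n : ℕ}

/-- Complete homogeneous polynomial. -/
noncomputable def hom' (n m : ℕ) : MvPolynomial (Fin n) ℤ :=
  ∑ a ∈ (Finset.univ : Finset (Fin n)).finsuppAntidiag m, monomial a 1

theorem prod_X_pow' (a : Fin n →₀ ℕ) : ∏ l, (X l : MvPolynomial (Fin n) ℤ) ^ a l = monomial a 1 := by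
  rw [monomial_eq, C_1, one_mul, Finsupp.prod_fintype]
  exact fun _ => pow_zero _

/-- The generating series of the complete homogeneous polynomials. -/
theorem coeff_prod_geom (m : ℕ) :
    PowerSeries.coeff m (∏ l : Fin n, PowerSeries.mk fun k => (X l : MvPolynomial (Fin n) ℤ) ^ k) =
      hom' n m := by
  rw [PowerSeries.coeff_prod]
  refine Finset.sum_congr rfl fun a _ => ?_
  simp only [PowerSeries.coeff_mk]
  exact prod_X_pow' a

theorem one_sub_mul_geom {R : Type*} [CommRing R] (x : R) :
    (1 - PowerSeries.C x * PowerSeries.X) * PowerSeries.mk (fun k => x ^ k) = 1 := by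
  refine PowerSeries.ext fun m => ?_
  rw [sub_mul, one_mul, map_sub, PowerSeries.coeff_mk, mul_assoc, PowerSeries.coeff_C_mul]
  rcases m with _ | m
  · simp
  · rw [PowerSeries.coeff_succ_X_mul, PowerSeries.coeff_mk, PowerSeries.coeff_one, if_neg (by simp)]
    ring

/-- The polynomial with all reciprocal roots but one. -/
noncomputable def cpoly (i : Fin n) : Polynomial (MvPolynomial (Fin n) ℤ) :=
  ∏ l ∈ Finset.univ.erase i, (1 - Polynomial.C (X l) * Polynomial.X)

theorem cpoly_degree (i : Fin n) : (cpoly i).natDegree < n := by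
  refine lt_of_le_of_lt (Polynomial.natDegree_prod_le _ _) ?_
  refine lt_of_le_of_lt (Finset.sum_le_sum (g := fun _ => 1) fun l _ => ?_) ?_
  · compute_degree
  · simp only [Finset.sum_const, smul_eq_mul, mul_one, Finset.card_erase_of_mem (Finset.mem_univ i),
      Finset.card_univ, Fintype.card_fin]
    have := i.2
    omega

/-- The fundamental recursion. -/
theorem sum_coeff_hom (i : Fin n) (m : ℕ) :
    ∑ k : Fin n, (cpoly i).coeff k * (if (k : ℕ) ≤ m then hom' n (m - k) else 0) =
      (X i : MvPolynomial (Fin n) ℤ) ^ m := by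
  let H := ∏ l : Fin n, PowerSeries.mk fun k => (X l : MvPolynomial (Fin n) ℤ) ^ k
  have hP : ((cpoly i : Polynomial (MvPolynomial (Fin n) ℤ)) : PowerSeries (MvPolynomial (Fin n) ℤ)) * H =
      PowerSeries.mk fun k => (X i : MvPolynomial (Fin n) ℤ) ^ k := by
    rw [← Polynomial.coeToPowerSeries.ringHom_apply, cpoly, map_prod]
    simp only [H, ← Finset.mul_prod_erase Finset.univ _ (Finset.mem_univ i)]
    rw [mul_left_comm, ← Finset.prod_mul_distrib, Finset.prod_eq_one, mul_one]
    intro l _
    simp [one_sub_mul_geom]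
  have h := congrArg (PowerSeries.coeff m) hP
  rw [PowerSeries.coeff_mk, PowerSeries.coeff_mul] at h
  rw [← h, Finset.Nat.sum_antidiagonal_eq_sum_range_succ_mk]
  simp only [Polynomial.coeff_coe, H, coeff_prod_geom]
  rw [Fin.sum_univ_eq_sum_range fun k : ℕ =>
    (cpoly i).coeff k * (if k ≤ m then hom' n (m - k) else 0)]
  simp only [mul_ite, mul_zero]
  rw [← Finset.sum_filter]
  refine Finset.sum_subset (fun k hk => ?_) fun k hk hk' => ?_
  · simp only [Finset.mem_filter] at hk
    exact Finset.mem_range.2 (by omega)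
  · have hk0 := Finset.mem_range.1 hk
    have : ¬ k < n := fun hlt => hk' (Finset.mem_filter.2 ⟨Finset.mem_range.2 hlt, by omega⟩)
    rw [Polynomial.coeff_eq_zero_of_natDegree_lt (lt_of_lt_of_le (cpoly_degree i) (not_lt.1 this)),
      zero_mul]

/-- The matrix of complete homogeneous polynomials. -/
noncomputable def hMat (β : Fin n → ℕ) : Matrix (Fin n) (Fin n) (MvPolynomial (Fin n) ℤ) :=
  fun k j => if (k : ℕ) ≤ β j then hom' n (β j - k) else 0

theorem hom_zero : hom' n 0 = 1 := by
  rw [hom', Finset.finsuppAntidiag_zero, Finset.sum_singleton]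
  simp

/-- Powers of the variables. -/
noncomputable def pMat (β : Fin n → ℕ) : Matrix (Fin n) (Fin n) (MvPolynomial (Fin n) ℤ) :=
  fun i j => X i ^ β j

/-- Jacobi–Trudi. -/
theorem jacobi_trudi (β : Fin n → ℕ) :
    (pMat β).det =
      Matrix.det (Matrix.vandermonde fun i : Fin n => (X i : MvPolynomial (Fin n) ℤ)) *
        (hMat β).det := by
  let C : Matrix (Fin n) (Fin n) (MvPolynomial (Fin n) ℤ) := fun i k => (cpoly i).coeff k
  have key : ∀ γ : Fin n → ℕ, pMat γ = C * hMat γ := fun γ => by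
    refine Matrix.ext fun i j => ?_
    rw [Matrix.mul_apply]
    exact (sum_coeff_hom i (γ j)).symm
  have h1 : (hMat fun j : Fin n => (j : ℕ)).det = 1 := by
    rw [Matrix.det_of_upperTriangular (fun i j hij => by
      have : (j : ℕ) < i := hij
      simp [hMat, not_le.2 this])]
    exact Finset.prod_eq_one fun i _ => by simp [hMat, hom_zero]
  have h2 : C.det = Matrix.det (Matrix.vandermonde fun i : Fin n => (X i : MvPolynomial (Fin n) ℤ)) := by
    rw [show Matrix.vandermonde (fun i : Fin n => (X i : MvPolynomial (Fin n) ℤ)) =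
      C * hMat fun j : Fin n => (j : ℕ) from key _, Matrix.det_mul, h1, mul_one]
  rw [← h2, ← Matrix.det_mul, ← key]

theorem coeff_hom_prod (α β : Fin n → ℕ) :
    coeff (Finsupp.equivFunOnFinite.symm α) (∏ j, hom' n (β j)) = (Nat.card (Margins α β) : ℤ) := by
  classical
  simp only [hom', Finset.prod_univ_sum, coeff_sum, ← monomial_sum_one, coeff_monomial, Finset.sum_boole]
  rw [← Nat.card_eq_finsetCard]
  congr 1
  exact Nat.card_congr
    { toFun := fun t => ⟨fun k l => t.1 l k, fun k => by
          have h := (Finset.mem_filter.1 t.2).2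
          have := DFunLike.congr_fun h k
          simpa [Finsupp.coe_finsetSum, Finset.sum_apply] using this,
        fun l => (Finset.mem_finsuppAntidiag.1 (Fintype.mem_piFinset.1 (Finset.mem_filter.1 t.2).1 l)).1⟩
      invFun := fun a => ⟨fun l => Finsupp.equivFunOnFinite.symm fun k => a.1 k l,
        Finset.mem_filter.2 ⟨Fintype.mem_piFinset.2 fun l => Finset.mem_finsuppAntidiag.2
          ⟨by simpa using a.2.2 l, Finset.subset_univ _⟩, Finsupp.ext fun k => by
            simpa [Finsupp.coe_finsetSum, Finset.sum_apply] using a.2.1 k⟩⟩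
      left_inv := fun t => Subtype.ext (funext fun l => Finsupp.ext fun k => rfl)
      right_inv := fun a => Subtype.ext rfl }

/-- The signed sum. -/
noncomputable def signedSum (lam mu : Fin n → ℕ) : ℤ :=
  ∑ κ : Equiv.Perm (Fin n), ∑ τ : Equiv.Perm (Fin n),
    if (∀ i, (κ i : ℕ) ≤ lam i) ∧ (∀ i, (τ i : ℕ) ≤ mu i) then
      (Equiv.Perm.sign κ : ℤ) * (Equiv.Perm.sign τ : ℤ) *
        (Nat.card (Margins (fun i => lam i - κ i) fun i => mu i - τ i) : ℤ)
    else 0

theorem signedSum_eq {lam mu : Fin n → ℕ} (hlam : StrictMono lam) (hmu : StrictMono mu) :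
    signedSum lam mu = if lam = mu then 1 else 0 := by
  classical
  have h := congrArg (coeff (Finsupp.equivFunOnFinite.symm lam)) (jacobi_trudi mu)
  have hl : coeff (Finsupp.equivFunOnFinite.symm lam)
      (pMat mu).det = if lam = mu then 1 else 0 := by
    rw [Matrix.det_apply', coeff_sum]
    simp only [pMat]
    have hterm : ∀ σ : Equiv.Perm (Fin n), coeff (Finsupp.equivFunOnFinite.symm lam)
        (((Equiv.Perm.sign σ : ℤ) : MvPolynomial (Fin n) ℤ) *
          ∏ i, (X (σ i) : MvPolynomial (Fin n) ℤ) ^ mu i) =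
        (Equiv.Perm.sign σ : ℤ) * if (fun l => mu (σ.symm l)) = lam then 1 else 0 := fun σ => by
      rw [show (∏ i, (X (σ i) : MvPolynomial (Fin n) ℤ) ^ mu i) =
          monomial (Finsupp.equivFunOnFinite.symm fun l => mu (σ.symm l)) 1 by
        rw [← prod_X_pow']
        refine Eq.trans ?_ (Equiv.prod_comp σ _)
        simp]
      rw [show ((Equiv.Perm.sign σ : ℤ) : MvPolynomial (Fin n) ℤ) = C (Equiv.Perm.sign σ : ℤ) by simp,
        coeff_C_mul, coeff_monomial]
      simp [EmbeddingLike.apply_eq_iff_eq]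
    rw [Finset.sum_congr rfl fun σ _ => hterm σ]
    by_cases he : lam = mu
    · subst he
      rw [Finset.sum_eq_single 1]
      · rw [if_pos]
        · simp
        · funext l; simp [Equiv.Perm.one_symm]
      · intro σ _ hσ
        rw [if_neg, mul_zero]
        intro hc
        refine hσ (Equiv.ext fun i => ?_)
        have := hlam.injective ((congrFun hc (σ i)).symm.trans (congrArg lam (σ.symm_apply_apply i)))
        exact this
      · simp
    · rw [if_neg he]
      refine Finset.sum_eq_zero fun σ _ => ?_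
      rw [if_neg, mul_zero]
      intro hc
      have hmono : StrictMono (σ.symm : Fin n → Fin n) := fun a b hab => by
        by_contra hn
        have := hlam hab
        rw [← hc] at this
        exact absurd this (not_lt.2 (hmu.monotone (not_lt.1 hn)))
      have : (σ.symm : Fin n → Fin n) = id := funext fun l => congrFun (congrArg DFunLike.coe
        (Subsingleton.elim (hmono.orderIsoOfSurjective _ σ.symm.surjective) (OrderIso.refl _))) l
      exact he (by rw [← hc]; funext l; rw [congrFun this l]; rfl)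
  rw [hl, Matrix.det_apply', Matrix.det_apply', Finset.sum_mul, coeff_sum] at h
  rw [h, signedSum, ← Equiv.sum_comp (Equiv.inv (Equiv.Perm (Fin n)))]
  refine Finset.sum_congr rfl fun σ _ => ?_
  rw [Finset.mul_sum, coeff_sum]
  refine Finset.sum_congr rfl fun τ _ => ?_
  have hmon : (∏ i, Matrix.vandermonde (fun i : Fin n => (X i : MvPolynomial (Fin n) ℤ)) (σ i) i) =
      monomial (Finsupp.equivFunOnFinite.symm fun l => (σ.symm l : ℕ)) 1 := by
    rw [← prod_X_pow']
    refine Eq.trans ?_ (Equiv.prod_comp σ _)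
    simp [Matrix.vandermonde]
  have hprod : (∏ j, hMat mu (τ j) j) =
      if ∀ i, (τ i : ℕ) ≤ mu i then ∏ j, hom' n (mu j - τ j) else 0 := by
    split_ifs with hτ
    · exact Finset.prod_congr rfl fun j _ => by rw [hMat, if_pos (hτ j)]
    · push Not at hτ
      obtain ⟨j, hj⟩ := hτ
      exact Finset.prod_eq_zero (Finset.mem_univ j) (by rw [hMat, if_neg (not_le.2 hj)])
  rw [hmon, hprod]
  rw [show ((Equiv.Perm.sign σ : ℤ) : MvPolynomial (Fin n) ℤ) = C (Equiv.Perm.sign σ : ℤ) by simp,
    show ((Equiv.Perm.sign τ : ℤ) : MvPolynomial (Fin n) ℤ) = C (Equiv.Perm.sign τ : ℤ) by simp,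
    mul_mul_mul_comm, ← map_mul, coeff_C_mul, coeff_monomial_mul']
  have hle : (Finsupp.equivFunOnFinite.symm fun l => (σ.symm l : ℕ)) ≤ Finsupp.equivFunOnFinite.symm lam ↔
      ∀ i, (σ.symm i : ℕ) ≤ lam i := Iff.rfl
  show (if (∀ i, (σ⁻¹ i : ℕ) ≤ lam i) ∧ (∀ i, (τ i : ℕ) ≤ mu i) then
      (Equiv.Perm.sign σ⁻¹ : ℤ) * (Equiv.Perm.sign τ : ℤ) *
        (Nat.card (Margins (fun i => lam i - (σ⁻¹ i : ℕ)) fun i => mu i - τ i) : ℤ) else 0) = _
  rw [Equiv.Perm.sign_inv]
  by_cases hs : ∀ i, (σ.symm i : ℕ) ≤ lam i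
  · rw [if_pos (hle.2 hs), one_mul]
    by_cases ht : ∀ i, (τ i : ℕ) ≤ mu i
    · rw [if_pos ⟨hs, ht⟩, if_pos ht]
      rw [show Finsupp.equivFunOnFinite.symm lam - (Finsupp.equivFunOnFinite.symm fun l => (σ.symm l : ℕ)) =
        Finsupp.equivFunOnFinite.symm fun i => lam i - (σ⁻¹ i : ℕ) from Finsupp.ext fun i => rfl, coeff_hom_prod]
    · rw [if_neg (fun h => ht h.2), if_neg ht, coeff_zero, mul_zero]
  · rw [if_neg (fun h => hs h.1), if_neg (hle.not.2 hs), mul_zero]

end CfsgLib.Unipotent
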