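import Cfsg.Agent.Lib.Unipotent.DoubleCoset
import Cfsg.Agent.Lib.Unipotent.Bruhat

set_option autoImplicit false

/-!
Inner products of flag characters of `GL_n` and `S_n`.
-/

namespace CfsgLib.Unipotent

open Matrix

variable {n : ℕ}

theorem gl_inner {F : Type*} [Field F] [Fintype F] [DecidableEq F] (μ ν : Fin n → ℕ)
    (hμ : ∑ i, μ i = n) (hν : ∑ i, ν i = n) :
    (Nat.card (GL (Fin n) F) : ℂ)⁻¹ * ∑ g : GL (Fin n) F,
      Cfsg.fixedPointCharacter (Cfsg.parabolicGL n F μ) g * Cfsg.fixedPointCharacter (Cfsg.parabolicGL n F ν) g =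
      (Nat.card (Margins μ ν) : ℂ) := by
  rw [sum_fixed, orbit_count hμ hν _ _ pm (fun ρ h => pm_mem hμ h) (fun π h => pm_mem hν h) (fun g => ?_)
    (fun σ σ' a b ha hb h => gl_cnt_eq hμ hν σ σ' a b ha hb h)]
  obtain ⟨σ, a, b, ha, hb, h⟩ := bruhat_GL g
  refine ⟨σ, a⁻¹, inv_mem (upper_mem hμ ha), b⁻¹, inv_mem (upper_mem hν hb), ?_⟩
  rw [show (pm σ : GL (Fin n) F) = a * g * b from Units.ext h.symm]
  group

theorem perm_inner (μ ν : Fin n → ℕ) (hμ : ∑ i, μ i = n) (hν : ∑ i, ν i = n) :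
    (Nat.card (Equiv.Perm (Fin n)) : ℂ)⁻¹ * ∑ σ : Equiv.Perm (Fin n),
      Cfsg.fixedPointCharacter (Cfsg.youngSubgroup μ) σ * Cfsg.fixedPointCharacter (Cfsg.youngSubgroup ν) σ =
      (Nat.card (Margins μ ν) : ℂ) := by
  rw [sum_fixed, orbit_count hμ hν (Cfsg.youngSubgroup μ) (Cfsg.youngSubgroup ν) (MonoidHom.id _) (fun ρ h i => congrArg Fin.val (h i))
    (fun π h i => congrArg Fin.val (h i))
    (fun g => ⟨g, 1, one_mem _, 1, one_mem _, by simp⟩) fun σ σ' a b ha hb h => ?_]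
  have ha' : ∀ i, lab μ hμ (a i) = lab μ hμ i := fun i => Fin.ext (ha i)
  have hb' : ∀ i, lab ν hν (b i) = lab ν hν i := fun i => Fin.ext (hb i)
  funext k l
  refine Finset.card_equiv b fun j => ?_
  have e : a (σ j) = σ' (b j) := congrArg (fun f : Equiv.Perm (Fin n) => f j) h
  simp only [Finset.mem_filter, Finset.mem_univ, true_and, hb', ← e, ha']

end CfsgLib.Unipotent
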