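import Cfsg.Prelude.Def_Characters
import Cfsg.Agent.Lib.Unipotent.Pairs
import Cfsg.Agent.Lib.Unipotent.JacobiTrudi
import Cfsg.Agent.Lib.Unipotent.Degree
import Cfsg.Agent.Lib.Char.Virtual
import Cfsg.Agent.Lib.Char.Counting

set_option autoImplicit false

/-!
The partition indexed irreducible characters of `GL_n`.
-/

namespace CfsgLib.Unipotent

open CfsgLib.Classical.BlockCard CfsgLib.Char
open scoped ComplexConjugate

variable {n : ℕ} {F : Type*} [Field F] [Fintype F]

theorem lam_strictMono {ν : Fin n → ℕ} (h : Monotone ν) : StrictMono fun i : Fin n => ν i + i.val :=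
  fun i j hij => by
    have := h hij.le
    have h2 : i.val < j.val := hij
    simp only
    omega

theorem unip_inner [DecidableEq F] {ν ν' : Fin n → ℕ} (hν : ∑ i, ν i = n) (hν' : ∑ i, ν' i = n) :
    Cfsg.classInner (Cfsg.unipotentCharacterGL n F ν) (Cfsg.unipotentCharacterGL n F ν') =
      (signedSum (fun i => ν i + i.val) (fun i => ν' i + i.val) : ℂ) := by
  have hconj : ∀ g, conj (Cfsg.unipotentCharacterGL n F ν' g) = Cfsg.unipotentCharacterGL n F ν' g :=
    fun g => by
    simp only [Cfsg.unipotentCharacterGL, map_sum]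
    refine Finset.sum_congr rfl fun κ _ => ?_
    split_ifs
    · simp [Cfsg.fixedPointCharacter]
    · simp
  rw [Cfsg.classInner, signedSum, Int.cast_sum]
  simp only [hconj]
  simp only [Cfsg.unipotentCharacterGL, Finset.sum_mul, Finset.mul_sum]
  rw [Finset.sum_comm]
  refine Eq.trans (Finset.sum_congr rfl fun a _ => Finset.sum_comm) ?_
  rw [Finset.sum_comm]
  refine Finset.sum_congr rfl fun κ _ => ?_
  rw [Int.cast_sum]
  refine Finset.sum_congr rfl fun τ _ => ?_
  by_cases h1 : ∀ i, (κ i : ℕ) ≤ ν i + i.val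
  · by_cases h2 : ∀ i, (τ i : ℕ) ≤ ν' i + i.val
    · simp only [if_pos h1, if_pos h2, if_pos (And.intro h1 h2)]
      push_cast
      rw [← gl_inner (F := F) _ _ (sum_sub_perm hν κ h1) (sum_sub_perm hν' τ h2), Finset.mul_sum,
        Finset.mul_sum]
      exact Finset.sum_congr rfl fun g _ => by ring
    · simp [if_neg h2, if_neg (fun h : (∀ i, (κ i : ℕ) ≤ ν i + i.val) ∧ ∀ i, (τ i : ℕ) ≤ ν' i + i.val => h2 h.2)]
  · simp [if_neg h1, if_neg (fun h : (∀ i, (κ i : ℕ) ≤ ν i + i.val) ∧ ∀ i, (τ i : ℕ) ≤ ν' i + i.val => h1 h.1)]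

theorem unip_generalized [DecidableEq F] (ν : Fin n → ℕ) :
    Cfsg.IsGeneralizedCharacter (GL (Fin n) F) (Cfsg.unipotentCharacterGL n F ν) := by
  have hrw : Cfsg.unipotentCharacterGL n F ν = ∑ κ : Equiv.Perm (Fin n),
      if ∀ i : Fin n, (κ i).val ≤ ν i + i.val then
        ((Equiv.Perm.sign κ : ℤ) : ℂ) •
          Cfsg.fixedPointCharacter (Cfsg.parabolicGL n F fun i => ν i + i.val - (κ i).val)
      else 0 := by
    funext g
    rw [Cfsg.unipotentCharacterGL, Finset.sum_apply]
    refine Finset.sum_congr rfl fun κ _ => ?_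
    split_ifs <;> rfl
  rw [hrw]
  refine isGeneralized_sum _ _ fun κ _ => ?_
  split_ifs
  · refine isGeneralized_intCast_smul (isGeneralized_of_isCharacter ?_) _
    exact isCharacter_perm (G := GL (Fin n) F) (X := GL (Fin n) F ⧸ _)
  · exact isGeneralized_zero

theorem qint_strictMono {q : ℕ} (hq : 1 ≤ q) : StrictMono (qint q) :=
  strictMono_nat_of_lt_succ fun r => by
    rw [qint, qint, Finset.sum_range_succ]
    have := Nat.one_le_pow r q hq
    omega

theorem degree_formula {q : ℕ} (hq : Fintype.card F = q) {ν : Fin n → ℕ} (hν : ∑ i, ν i = n) :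
    Cfsg.unipotentCharacterGL n F ν 1 * (q : ℂ) ^ (n * (n - 1) * (n - 2) / 6) *
        ∏ i : Fin n, ∏ j ∈ Finset.range (ν i + i.val), ((∑ l ∈ Finset.range (j + 1), q ^ l : ℕ) : ℂ) =
      (∏ j ∈ Finset.range n, ((∑ l ∈ Finset.range (j + 1), q ^ l : ℕ) : ℂ)) *
        ∏ i : Fin n, ∏ j ∈ Finset.univ.filter (fun j : Fin n => i < j),
          (((∑ l ∈ Finset.range (ν j + j.val), q ^ l : ℕ) : ℂ) -
            ((∑ l ∈ Finset.range (ν i + i.val), q ^ l : ℕ) : ℂ)) := by
  simp only [← Nat.cast_prod]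
  subst hq
  have h := value_one (F := F) hν
  show _ * _ * ((∏ i : Fin n, qfac (Fintype.card F) (ν i + i.val) : ℕ) : ℂ) = (qfac (Fintype.card F) n : ℂ) * _
  rw [mul_right_comm, Nat.cast_prod, h, mul_assoc, mul_comm _ ((Fintype.card F : ℂ) ^ _), det_qfall]
  rfl

theorem unip_irreducible [DecidableEq F] {ν : Fin n → ℕ} (hmono : Monotone ν) (hν : ∑ i, ν i = n) :
    Cfsg.IsIrrCharacter (GL (Fin n) F) (Cfsg.unipotentCharacterGL n F ν) := by
  have hnorm : Cfsg.classInner (Cfsg.unipotentCharacterGL n F ν) (Cfsg.unipotentCharacterGL n F ν) = 1 := by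
    rw [unip_inner hν hν, signedSum_eq (lam_strictMono hmono) (lam_strictMono hmono), if_pos rfl]
    simp
  obtain ⟨ε, hε, ψ, hψ⟩ := exists_of_norm_one (unip_generalized ν) hnorm
  rcases hε with rfl | rfl
  · rw [hψ, one_smul]; exact ψ.2
  exfalso
  obtain ⟨d, ρ, -, hρ⟩ := ψ.2
  have hd : (ψ : GL (Fin n) F → ℂ) 1 = (d : ℂ) := by
    rw [← hρ, Representation.char_one]
    simp
  set q := Fintype.card F with hqdef
  have hq : 1 ≤ q := Fintype.card_pos
  have h := degree_formula (F := F) hqdef.symm hν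
  rw [hψ, Pi.smul_apply, hd, smul_eq_mul] at h
  set P : ℕ := ∏ i : Fin n, ∏ j ∈ Finset.univ.filter (fun j : Fin n => i < j),
    (qint q (ν j + j.val) - qint q (ν i + i.val))
  have hP : 0 < P := Finset.prod_pos fun i _ => Finset.prod_pos fun j hj => by
    have hij := qint_strictMono hq (lam_strictMono hmono (Finset.mem_filter.1 hj).2)
    simp only at hij
    omega
  have hPc : (P : ℂ) = ∏ i : Fin n, ∏ j ∈ Finset.univ.filter (fun j : Fin n => i < j),
      (((∑ l ∈ Finset.range (ν j + j.val), q ^ l : ℕ) : ℂ) -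
        ((∑ l ∈ Finset.range (ν i + i.val), q ^ l : ℕ) : ℂ)) := by
    simp only [P, Nat.cast_prod]
    refine Finset.prod_congr rfl fun i _ => Finset.prod_congr rfl fun j hj => ?_
    have hij := qint_strictMono hq (lam_strictMono hmono (Finset.mem_filter.1 hj).2)
    rw [Nat.cast_sub (show qint q (ν i + i.val) ≤ qint q (ν j + j.val) from hij.le)]
    rfl
  have hn : 0 < qfac q n := qfac_pos hq n
  have h0 : ((d * q ^ (n * (n - 1) * (n - 2) / 6) * ∏ i : Fin n, qfac q (ν i + i.val) +
      qfac q n * P : ℕ) : ℂ) = 0 := by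
    simp only [Nat.cast_add, Nat.cast_mul, Nat.cast_pow, hPc, qfac, Nat.cast_prod]
    linear_combination -h
  have := Nat.cast_eq_zero.1 h0
  have := Nat.mul_pos hn hP
  omega

theorem unip_distinct [DecidableEq F] {ν ν' : Fin n → ℕ} (hmono : Monotone ν) (hν : ∑ i, ν i = n)
    (hmono' : Monotone ν') (hν' : ∑ i, ν' i = n)
    (h : Cfsg.unipotentCharacterGL n F ν = Cfsg.unipotentCharacterGL n F ν') : ν = ν' := by
  by_contra hne
  have h1 : Cfsg.classInner (Cfsg.unipotentCharacterGL n F ν) (Cfsg.unipotentCharacterGL n F ν') = 1 := by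
    rw [← h, unip_inner hν hν, signedSum_eq (lam_strictMono hmono) (lam_strictMono hmono), if_pos rfl]
    simp
  rw [unip_inner hν hν', signedSum_eq (lam_strictMono hmono) (lam_strictMono hmono'),
    if_neg fun e => hne (funext fun i => Nat.add_right_cancel (congrFun e i))] at h1
  simp at h1

end CfsgLib.Unipotent
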